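import Cfsg.Agent.Lib.SLPres.NGen

/-!
# An element and its coordinate swap generate `SL₂`
-/

set_option autoImplicit false

namespace CfsgLib.SLPres.Swap

open Equiv
open scoped MatrixGroups

variable {F : Type*} [Field F]

/-- The coordinate swap of `SL₂`. -/
def sw2 : SL(2, F) →* SL(2, F) := padHom (swap (0 : Fin 2) 1) (swap (0 : Fin 2) 1).injective

/-- An upper root element. -/
def up (t : F) : SL(2, F) := ⟨!![1, t; 0, 1], by simp [Matrix.det_fin_two]⟩

/-- A lower triangular element. -/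
def lw (μ x : F) (hμ : μ ≠ 0) : SL(2, F) := ⟨!![μ, 0; x, μ⁻¹], by simp [Matrix.det_fin_two, hμ]⟩

/-- An upper triangular element. -/
def uw (μ x : F) (hμ : μ ≠ 0) : SL(2, F) := ⟨!![μ⁻¹, x; 0, μ], by simp [Matrix.det_fin_two, hμ]⟩

theorem sw2_apply (g : SL(2, F)) : (sw2 g : Matrix (Fin 2) (Fin 2) F) = !![g 1 1, g 1 0; g 0 1, g 0 0] := by
  ext i j
  show ((1 : Matrix (Fin 2) (Fin 2) F) + (1 : Matrix (Fin 2) (Fin 2) F).submatrix id (swap (0 : Fin 2) 1) *
    ((g : Matrix (Fin 2) (Fin 2) F) - 1) * (1 : Matrix (Fin 2) (Fin 2) F).submatrix (swap (0 : Fin 2) 1) id) i j = _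
  fin_cases i <;> fin_cases j <;>
    simp [Matrix.mul_apply, Fin.sum_univ_two, Matrix.one_apply, swap_apply_def]

theorem sw2_lw (μ x : F) (hμ : μ ≠ 0) : sw2 (lw μ x hμ) = uw μ x hμ := by
  apply Subtype.ext
  rw [sw2_apply]
  simp [lw, uw]

theorem sw2_sw2 (g : SL(2, F)) : sw2 (sw2 g) = g := by
  apply Subtype.ext
  rw [sw2_apply, sw2_apply]
  ext i j
  fin_cases i <;> fin_cases j <;> simp

theorem up_eq (t : F) :
    up t = Matrix.SpecialLinearGroup.transvection (show (0 : Fin 2) ≠ 1 by decide) t := by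
  apply Subtype.ext
  rw [Matrix.SpecialLinearGroup.transvection_coe]
  ext i j
  fin_cases i <;> fin_cases j <;> simp [up]

theorem sw2_up (t : F) :
    sw2 (up t) = Matrix.SpecialLinearGroup.transvection (show (1 : Fin 2) ≠ 0 by decide) t := by
  apply Subtype.ext
  rw [sw2_apply, Matrix.SpecialLinearGroup.transvection_coe]
  ext i j
  fin_cases i <;> fin_cases j <;> simp [up]

theorem up_add (s t : F) : up (s + t) = up s * up t := by
  apply Subtype.ext
  rw [Matrix.SpecialLinearGroup.coe_mul]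
  ext i j
  fin_cases i <;> fin_cases j <;> simp [up, Matrix.mul_apply, Fin.sum_univ_two, add_comm]

theorem up_zero : up (0 : F) = 1 := by
  apply Subtype.ext
  ext i j
  fin_cases i <;> fin_cases j <;> simp [up]

theorem up_neg (t : F) : up (-t) = (up t)⁻¹ := by
  refine (inv_eq_of_mul_eq_one_right ?_).symm
  rw [← up_add, add_neg_cancel, up_zero]

/-- All upper root elements and the swap give everything. -/
theorem closure_top (a : SL(2, F))
    (h : ∀ t, up t ∈ Subgroup.closure ({a, sw2 a} : Set SL(2, F))) :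
    Subgroup.closure ({a, sw2 a} : Set SL(2, F)) = ⊤ := by
  classical
  have hsw : ∀ g ∈ Subgroup.closure ({a, sw2 a} : Set SL(2, F)),
      sw2 g ∈ Subgroup.closure ({a, sw2 a} : Set SL(2, F)) := fun g hg => by
    have : sw2 g ∈ (Subgroup.closure ({a, sw2 a} : Set SL(2, F))).map sw2 := ⟨g, hg, rfl⟩
    rwa [MonoidHom.map_closure, Set.image_pair, sw2_sw2, Set.pair_comm] at this
  rw [eq_top_iff, ← Classical.closure_transvection_eq_top (ι := Fin 2) (F := F), Subgroup.closure_le]
  rintro _ ⟨i, j, hij, t, rfl⟩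
  fin_cases i <;> fin_cases j
  · exact absurd rfl hij
  · exact up_eq t ▸ h t
  · exact sw2_up t ▸ hsw _ (h t)
  · exact absurd rfl hij

variable [Fintype F]

/-- One root element and the torus action give the root group. -/
theorem up_mem (μ : F) (hμ : μ ≠ 0) (hgen : ∀ t : F, t ≠ 0 → ∃ i : ℕ, t = μ ^ i) (x d : F) (hd : d ≠ 0)
    (H : Subgroup SL(2, F)) (hb : uw μ x hμ ∈ H) (hu : up d ∈ H) (t : F) : up t ∈ H := by
  have hconj : ∀ s, (uw μ x hμ)⁻¹ * up s * uw μ x hμ = up (μ * μ * s) := fun s => by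
    rw [mul_assoc, inv_mul_eq_iff_eq_mul]
    apply Subtype.ext
    rw [Matrix.SpecialLinearGroup.coe_mul, Matrix.SpecialLinearGroup.coe_mul]
    ext i j
    fin_cases i <;> fin_cases j <;>
      simp [uw, up, Matrix.mul_apply, Fin.sum_univ_two] <;> field_simp <;> ring
  have hpow : ∀ i : ℕ, up (μ ^ i * μ ^ i * d) ∈ H := by
    intro i
    induction i with
    | zero => simpa using hu
    | succ n ih =>
      rw [show μ ^ (n + 1) * μ ^ (n + 1) * d = μ * μ * (μ ^ n * μ ^ n * d) by ring, ← hconj]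
      exact mul_mem (mul_mem (inv_mem hb) ih) hb
  have key := exists_sq_add {s : F | up (s * d) ∈ H} (by simpa [up_zero] using one_mem H)
    (by simpa using hu)
    (fun s hs s' hs' => by
      show up ((s + s') * d) ∈ H
      rw [add_mul, up_add]; exact mul_mem hs hs')
    (fun s hs => by
      show up (-s * d) ∈ H
      rw [neg_mul, up_neg]; exact inv_mem hs)
    (fun s hs => by
      obtain ⟨i, rfl⟩ := hgen s hs
      exact hpow i) (t / d)
  simpa [hd] using key

omit [Fintype F] in
theorem lw_pow (μ k : F) (hμ : μ ≠ 0) (j : ℕ) :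
    ((lw μ (k * (μ - μ⁻¹)) hμ ^ j : SL(2, F)) : Matrix (Fin 2) (Fin 2) F) =
      !![μ ^ j, 0; k * (μ ^ j - (μ ^ j)⁻¹), (μ ^ j)⁻¹] := by
  induction j with
  | zero => ext a b; fin_cases a <;> fin_cases b <;> simp
  | succ n ih =>
    rw [pow_succ, Matrix.SpecialLinearGroup.coe_mul, ih]
    ext a b
    fin_cases a <;> fin_cases b <;>
      simp [lw, Matrix.mul_apply, Fin.sum_univ_two, pow_succ] <;> field_simp <;> ring

/-- Two squares summing to one give a suitable element. -/
theorem exists_gen_of_squares (μ : F) (hμ : μ ≠ 0) (hgen : ∀ t : F, t ≠ 0 → ∃ i : ℕ, t = μ ^ i)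
    (hμ2 : μ * μ ≠ 1) (m n : F) (hm : m ≠ 0) (hn : n ≠ 0) (h1 : m * m + n * n = 1) (h2 : 1 + m * m ≠ 0) :
    ∃ a : SL(2, F), Subgroup.closure ({a, sw2 a} : Set SL(2, F)) = ⊤ := by
  set x := n⁻¹ * (μ - μ⁻¹) with hx
  obtain ⟨i, hi⟩ := hgen m hm
  refine ⟨lw μ x hμ, closure_top _ fun t => ?_⟩
  set H := Subgroup.closure ({lw μ x hμ, sw2 (lw μ x hμ)} : Set SL(2, F))
  have ha : lw μ x hμ ∈ H := Subgroup.subset_closure (Set.mem_insert _ _)
  have hb : uw μ x hμ ∈ H := by
    rw [← sw2_lw]; exact Subgroup.subset_closure (Set.mem_insert_of_mem _ rfl)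
  set d := (1 + m * m) * μ * x with hd
  have hδ : μ - μ⁻¹ ≠ 0 := by
    rw [sub_ne_zero]
    intro h
    exact hμ2 (by nth_rewrite 1 [h]; exact inv_mul_cancel₀ hμ)
  have hd0 : d ≠ 0 := mul_ne_zero (mul_ne_zero h2 hμ) (mul_ne_zero (inv_ne_zero hn) hδ)
  refine up_mem μ hμ hgen x d hd0 H hb ?_ t
  have e : lw μ x hμ ^ i * uw μ x hμ = up d * (uw μ x hμ)⁻¹ * lw μ x hμ ^ i := by
    apply Subtype.ext
    simp only [Matrix.SpecialLinearGroup.coe_mul, Matrix.SpecialLinearGroup.coe_inv, hx, lw_pow, ← hi]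
    rw [Matrix.adjugate_fin_two]
    simp only [uw, up, hd, hx]
    ext a b
    fin_cases a <;> fin_cases b <;>
      simp [Matrix.mul_apply, Fin.sum_univ_two] <;> field_simp <;>
      first
      | ring1
      | linear_combination (μ ^ 2 - 1) * h1
      | linear_combination -(μ ^ 2 - 1) * h1
      | linear_combination (μ ^ 2 - 1) * m ^ 2 * h1
      | linear_combination -((μ ^ 2 - 1) * m ^ 2) * h1
  have : up d = lw μ x hμ ^ i * uw μ x hμ * (lw μ x hμ ^ i)⁻¹ * uw μ x hμ := by rw [e]; group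
  rw [this]
  exact mul_mem (mul_mem (mul_mem (pow_mem ha i) hb) (inv_mem (pow_mem ha i))) hb

/-- The field with nine elements, by a word. -/
theorem exists_gen_nine [CharP F 3] (h9 : Fintype.card F = 9) :
    ∃ a : SL(2, F), Subgroup.closure ({a, sw2 a} : Set SL(2, F)) = ⊤ := by
  classical
  have h3 : (3 : F) = 0 := CharP.ofNat_eq_zero F 3
  obtain ⟨r, hr⟩ : IsSquare (2 : F) := by
    rw [FiniteField.isSquare_iff (by rw [ringChar.eq F 3]; decide)
      (fun h => by have : (1 : F) = 0 := (by linear_combination h3 - h); exact one_ne_zero this), h9]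
    linear_combination (5 : F) * h3
  set w : F := -(1 + r) with hwdef
  have hw : w * w = w + 1 := by rw [hwdef]; linear_combination -hr + (r + 1) * h3
  have hw0 : w ≠ 0 := fun h => by rw [h, mul_zero, zero_add] at hw; exact zero_ne_one hw
  have hw4 : w ^ 4 = -1 := by linear_combination (w * w + w + 2) * hw + (w + 1) * h3
  have hne : w ^ 4 ≠ 1 := fun h => by
    rw [hw4] at h
    exact one_ne_zero (show (1 : F) = 0 by linear_combination h3 + h)
  have h8 : orderOf w = 2 ^ 3 :=
    orderOf_eq_prime_pow (by norm_num; exact hne) (by linear_combination (w ^ 4 - 1) * hw4)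
  have hgen : ∀ t : F, t ≠ 0 → ∃ i : ℕ, t = w ^ i := by
    have hsub : (Finset.range 8).image (fun i => w ^ i) ⊆ Finset.univ.erase (0 : F) := by
      intro t ht
      obtain ⟨i, -, rfl⟩ := Finset.mem_image.mp ht
      exact Finset.mem_erase.mpr ⟨pow_ne_zero i hw0, Finset.mem_univ _⟩
    have heq := Finset.eq_of_subset_of_card_le hsub (by
      rw [Finset.card_erase_of_mem (Finset.mem_univ _), Finset.card_univ, h9,
        Finset.card_image_of_injOn (fun i hi j hj hij => pow_injOn_Iio_orderOf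
          (by simpa [h8] using hi) (by simpa [h8] using hj) hij), Finset.card_range])
    intro t ht
    have : t ∈ (Finset.range 8).image (fun i => w ^ i) := by
      rw [heq]; exact Finset.mem_erase.mpr ⟨ht, Finset.mem_univ _⟩
    obtain ⟨i, -, hi⟩ := Finset.mem_image.mp this
    exact ⟨i, hi.symm⟩
  have hinv : w⁻¹ = w - 1 := inv_eq_of_mul_eq_one_right (by linear_combination hw)
  refine ⟨lw w w hw0, closure_top _ fun t => ?_⟩
  set H := Subgroup.closure ({lw w w hw0, sw2 (lw w w hw0)} : Set SL(2, F))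
  have ha : lw w w hw0 ∈ H := Subgroup.subset_closure (Set.mem_insert _ _)
  have hb : uw w w hw0 ∈ H := by
    rw [← sw2_lw]; exact Subgroup.subset_closure (Set.mem_insert_of_mem _ rfl)
  refine up_mem w hw0 hgen w (2 * w) (mul_ne_zero (fun h => one_ne_zero
    (show (1 : F) = 0 by linear_combination h3 - h)) hw0) H hb ?_ t
  have e : up (2 * w) = lw w w hw0 * uw w w hw0 * lw w w hw0 * lw w w hw0 *
      uw w w hw0 * uw w w hw0 * uw w w hw0 := by
    apply Subtype.ext
    rw [Matrix.SpecialLinearGroup.coe_mul, Matrix.SpecialLinearGroup.coe_mul,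
      Matrix.SpecialLinearGroup.coe_mul, Matrix.SpecialLinearGroup.coe_mul,
      Matrix.SpecialLinearGroup.coe_mul, Matrix.SpecialLinearGroup.coe_mul]
    simp only [lw, uw, up, hinv, Matrix.mul_fin_two]
    ext i j
    fin_cases i <;> fin_cases j <;> simp <;> grobner
  rw [e]
  exact mul_mem (mul_mem (mul_mem (mul_mem (mul_mem (mul_mem ha hb) ha) ha) hb) hb) hb

/-- An element generating `SL₂` together with its swap. -/
theorem exists_gen : ∃ a : SL(2, F), Subgroup.closure ({a, sw2 a} : Set SL(2, F)) = ⊤ := by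
  classical
  obtain ⟨p, hc⟩ := CharP.exists F
  have hp : p.Prime := CharP.char_is_prime F p
  haveI : Fact p.Prime := ⟨hp⟩
  obtain ⟨d, -, hcard⟩ := FiniteField.card F p
  by_cases hprime : (Fintype.card F).Prime
  · refine ⟨up 1, closure_top _ fun t => ?_⟩
    have htop := zmultiples_eq_top_of_prime_card (G := F) (by rw [Nat.card_eq_fintype_card])
      (g := (1 : F)) (hp := ⟨hprime⟩) one_ne_zero
    have ht : t ∈ AddSubgroup.zmultiples (1 : F) := htop ▸ AddSubgroup.mem_top t
    rw [AddSubgroup.zmultiples_eq_closure] at ht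
    induction ht using AddSubgroup.closure_induction with
    | mem x hx =>
      rw [Set.mem_singleton_iff.mp hx]
      exact Subgroup.subset_closure (Set.mem_insert _ _)
    | zero => rw [up_zero]; exact one_mem _
    | add x y _ _ hx hy => rw [up_add]; exact mul_mem hx hy
    | neg x _ hx => rw [up_neg]; exact inv_mem hx
  by_cases h9 : Fintype.card F = 9
  · have : p = 3 := by
      rw [hcard] at h9
      exact (Nat.prime_dvd_prime_iff_eq hp Nat.prime_three).mp (hp.dvd_of_dvd_pow (n := 2) (by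
        rw [show 3 ^ 2 = 9 from rfl, ← h9]; exact dvd_pow_self p d.ne_zero))
    subst this
    exact exists_gen_nine h9
  obtain ⟨μ, hμ, -, hord, hgen⟩ := exists_primitive (F := F)
  have hd2 : 2 ≤ (d : ℕ) := by
    rcases (show (d : ℕ) = 1 ∨ 2 ≤ (d : ℕ) by have := d.pos; omega) with h | h
    · rw [hcard, h, pow_one] at hprime
      exact absurd hp hprime
    · exact h
  have hq4 : 4 ≤ Fintype.card F := by
    rw [hcard]
    calc 4 = 2 ^ 2 := rfl
      _ ≤ p ^ 2 := Nat.pow_le_pow_left hp.two_le 2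
      _ ≤ _ := Nat.pow_le_pow_right hp.pos hd2
  have hμ2 : μ * μ ≠ 1 := fun h => by
    have := Nat.le_of_dvd (by omega) (hord 2 (by rw [pow_two]; exact h))
    omega
  rcases hp.eq_two_or_odd with h2 | h2
  · subst h2
    have e2 : (2 : F) = 0 := CharP.ofNat_eq_zero F 2
    refine exists_gen_of_squares μ hμ hgen hμ2 μ (1 + μ) hμ (fun h => hμ2 ?_)
      (by linear_combination (μ * μ + μ) * e2) (fun h => hμ2 ?_)
    · linear_combination (μ - 1) * h
    · linear_combination h - e2
  · have hq8 : 9 < Fintype.card F := by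
      rcases (show p = 3 ∨ 5 ≤ p by have := hp.two_le; omega) with rfl | h5
      · rcases (show (d : ℕ) = 2 ∨ 3 ≤ (d : ℕ) by omega) with h | h
        · exact absurd (by rw [hcard, h]; rfl) h9
        · rw [hcard]
          calc 9 < 3 ^ 3 := by norm_num
            _ ≤ _ := Nat.pow_le_pow_right (by norm_num) h
      · rw [hcard]
        calc 9 < 5 ^ 2 := by norm_num
          _ ≤ p ^ 2 := Nat.pow_le_pow_left h5 2
          _ ≤ _ := Nat.pow_le_pow_right hp.pos hd2
    have hne2 : (2 : F) ≠ 0 := fun h => by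
      have hd : p ∣ 2 := (CharP.cast_eq_zero_iff F p 2).mp (by exact_mod_cast h)
      have := (Nat.prime_dvd_prime_iff_eq hp Nat.prime_two).mp hd
      omega
    have h8 : μ ^ 8 ≠ 1 := fun h => by
      have := Nat.le_of_dvd (by omega) (hord 8 h)
      omega
    have hv : 1 + μ * μ ≠ 0 := fun h => h8 (by linear_combination (μ ^ 6 - μ ^ 4 + μ ^ 2 - 1) * h)
    have hv' : 1 + μ ^ 2 ≠ 0 := by rwa [pow_two]
    refine exists_gen_of_squares μ hμ hgen hμ2 ((1 - μ * μ) / (1 + μ * μ)) (2 * μ / (1 + μ * μ))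
      (div_ne_zero (fun h => hμ2 (by linear_combination -h)) hv)
      (div_ne_zero (mul_ne_zero hne2 hμ) hv) (by field_simp; ring) ?_
    intro h
    have h' : (2 : F) * (1 + μ ^ 4) = 0 := by
      field_simp at h
      linear_combination h
    exact h8 (by linear_combination (μ ^ 4 - 1) * ((mul_eq_zero.mp h').resolve_left hne2))

end CfsgLib.SLPres.Swap
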